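import Cfsg.Agent.H61.K6.CritD_m3
import Cfsg.Agent.H334.Four.FactFour
import Cfsg.Agent.Prune
set_option linter.all false
prune_inst 0x7f00000000000000000000000000000000000000000000000000000000000000000000000000000000000000000000000000000000000000000000000000000000000000000000000000000000000000003fffffffffffffffffffffffffffbeffbdffffffff
open scoped Cfsg.Agent.FastGrp

-- part: H61/K6/CritO
section
/-!
# S4876: criterion O (helper61)

`KGe.of_classes` : all but at most `m` irreducible characters of `X` are in `B₀(X)` and `X` has at least `n + m`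
classes under `Aut X`. `KRow.of_classes` : own characteristic (all characters but one in `B₀`, eight classes).
-/

set_option autoImplicit false

open Cfsg

namespace Cfsg.Agent.H61.K6

universe u v

open Cfsg.Agent.H334.Four

/-- the number of orbits of `Aut X` on `Irr X` is at least the number of elements pairwise not conjugate under
`Aut X` -/
theorem card_le_orbits {X : Type v} [Group X] [Finite X] (T : Finset X)
    (hinj : ∀ x ∈ T, ∀ y ∈ T, ∀ σ : X ≃* X, σ x = y → x = y) :
    T.card ≤ Nat.card (@MulAction.orbitRel.Quotient (MulAut X) (IrrCharacter X) _ actIrr) := by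
  classical
  rw [card_orbits]
  have hfin : Finite (@MulAction.orbitRel.Quotient (MulAut X) (ConjClasses X) _ actCl) := Quotient.finite _
  let F : T → @MulAction.orbitRel.Quotient (MulAut X) (ConjClasses X) _ actCl :=
    fun x => Quotient.mk _ (ConjClasses.mk (x : X))
  have hF : Function.Injective F := by
    intro x y hxy
    obtain ⟨a, ha⟩ : ∃ a : MulAut X, (ConjClasses.mk (a (y : X))) = ConjClasses.mk (x : X) :=
      Quotient.exact hxy
    obtain ⟨c, hc⟩ := isConj_iff.1 (ConjClasses.mk_eq_mk_iff_isConj.1 ha)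
    exact Subtype.ext (hinj y y.2 x x.2 (a.trans (MulAut.conj c)) hc).symm
  have h1 := Nat.card_le_card_of_injective F hF
  rwa [Nat.card_eq_fintype_card, Fintype.card_coe] at h1

/-- **CRITERION O.** -/
theorem KGe.of_classes {p n m : ℕ} {X : Type v} [Group X] [Finite X] (T : Finset X)
    (hinj : ∀ x ∈ T, ∀ y ∈ T, ∀ σ : X ≃* X, σ x = y → x = y) (hcard : n + m ≤ T.card)
    (hB : ∀ M : Ideal AlgInt, IsPModular p M → ∃ E : Finset (IrrCharacter X), E.card ≤ m ∧
      ∀ χ : IrrCharacter X, χ ∉ E → χ ∈ principalBlock M X) : KGe.{u, v} p n X := by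
  classical
  refine KGe.of_chars fun M hM => ?_
  obtain ⟨E, hEm, hE⟩ := hB M hM
  have h1 := hcard.trans (card_le_orbits T hinj)
  let act := actIrr (S := X)
  have : Finite (IrrCharacter X) := Characters.Core.finite_irr
  have hfin : Finite (MulAction.orbitRel.Quotient (MulAut X) (IrrCharacter X)) := Quotient.finite _
  have := Fintype.ofFinite (MulAction.orbitRel.Quotient (MulAut X) (IrrCharacter X))
  rw [Nat.card_eq_fintype_card] at h1
  let bad : Finset (MulAction.orbitRel.Quotient (MulAut X) (IrrCharacter X)) := E.image (Quotient.mk _)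
  have hbad : bad.card ≤ m := Finset.card_image_le.trans hEm
  have hgood : n ≤ badᶜ.card := by
    rw [Finset.card_compl]
    omega
  have hout : ∀ q : MulAction.orbitRel.Quotient (MulAut X) (IrrCharacter X),
      Quotient.mk _ (Quotient.out q) = q := fun q => Quotient.out_eq q
  refine ⟨badᶜ.image Quotient.out, ?_, ?_, ?_⟩
  · rw [Finset.card_image_of_injective _ Quotient.out_injective]
    exact hgood
  · intro χ hχ
    obtain ⟨q, hq, rfl⟩ := Finset.mem_image.1 hχ
    refine hE _ fun h2 => ?_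
    rw [Finset.mem_compl] at hq
    exact hq (Finset.mem_image.2 ⟨_, h2, hout q⟩)
  · intro χ hχ ψ hψ σ hσ
    obtain ⟨q, hq, rfl⟩ := Finset.mem_image.1 hχ
    obtain ⟨r, hr, rfl⟩ := Finset.mem_image.1 hψ
    have h2 : q = r := by
      rw [← hout q, ← hout r]
      apply Quotient.sound
      refine ⟨(σ : MulAut X), ?_⟩
      apply Subtype.ext
      funext s
      change ((Quotient.out r : IrrCharacter X) : X → ℂ) (σ.symm s) =
        ((Quotient.out q : IrrCharacter X) : X → ℂ) s
      rw [hσ, σ.apply_symm_apply]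
    rw [h2]

/-- Criterion O for a row: all irreducible characters but one lie in `B₀(X)`, eight classes under `Aut X`. -/
theorem KRow.of_classes {p : ℕ} {X : Type v} [Group X] [Finite X] (T : Finset X)
    (hinj : ∀ x ∈ T, ∀ y ∈ T, ∀ σ : X ≃* X, σ x = y → x = y) (hcard : 8 ≤ T.card)
    (hB : ∀ M : Ideal AlgInt, IsPModular p M → ∃ St : IrrCharacter X,
      ∀ χ : IrrCharacter X, χ ≠ St → χ ∈ principalBlock M X) : KRow.{u, v} p X :=
  KGe.of_classes (n := 7) (m := 1) T hinj hcard fun M hM => by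
    obtain ⟨St, h⟩ := hB M hM
    exact ⟨{St}, by simp, fun χ hχ => h χ fun h1 => hχ (Finset.mem_singleton.2 h1)⟩

/-- Criterion O with classes told apart by any invariant of `Aut X`, for instance the order of the element and the
order of its centralizer. -/
theorem KRow.of_classes_inv {p : ℕ} {X : Type v} [Group X] [Finite X] {ι : Type*} (inv : X → ι)
    (hinv : ∀ (σ : X ≃* X) (x : X), inv (σ x) = inv x) (T : Finset ι) (hT : ∀ i ∈ T, ∃ x : X, inv x = i)
    (hcard : 8 ≤ T.card)
    (hB : ∀ M : Ideal AlgInt, IsPModular p M → ∃ St : IrrCharacter X,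
      ∀ χ : IrrCharacter X, χ ≠ St → χ ∈ principalBlock M X) : KRow.{u, v} p X := by
  classical
  have hex : ∀ i : ι, ∃ x : X, i ∈ T → inv x = i := by
    intro i
    by_cases hi : i ∈ T
    · obtain ⟨x, hx⟩ := hT i hi
      exact ⟨x, fun _ => hx⟩
    · exact ⟨1, fun h => absurd h hi⟩
  choose F hF using hex
  refine KRow.of_classes (T.image F) ?_ ?_ hB
  · intro x hx y hy σ hσ
    obtain ⟨i, hi, rfl⟩ := Finset.mem_image.1 hx
    obtain ⟨j, hj, rfl⟩ := Finset.mem_image.1 hy
    have h1 := hinv σ (F i)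
    rw [hσ, hF i hi, hF j hj] at h1
    rw [h1]
  · rwa [Finset.card_image_of_injOn fun i hi j hj h => by rw [← hF i hi, h, hF j hj]]

end Cfsg.Agent.H61.K6
end

-- part: H193/K6/Basic
section
/-!
# S4876: criterion O for the groups `Γ`, `Inn X ≤ Γ ≤ Aut X`, of index prime to `p`; element orders (helper193)

* `Has X n` : `X` has an element of order `n`;
* `Eight X` : eight classes under `Aut X`;  `EightP p X` : eight classes under every `Γ` between `Inn X` and `Aut X`
  of index prime to `p`;
* `Eight.of_has` : eight element orders;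
* `krow_of_eightP`, `krow_of_eight` : all irreducible characters but one in `B₀(X)`: `KRow p X`.
-/

set_option autoImplicit false

open Cfsg

namespace Cfsg.Agent.H193.K6

open Cfsg.Agent.H61.K6 Cfsg.Agent.H334.Four Cfsg.Agent.H634

universe u v w

/-! ### element orders -/

/-- an element of order `n` -/
def Has (X : Type*) [Group X] (n : ℕ) : Prop := ∃ x : X, orderOf x = n

theorem Has.map {X Y : Type*} [Group X] [Group Y] {n : ℕ} (h : Has X n) (f : X →* Y)
    (hf : Function.Injective f) : Has Y n := by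
  obtain ⟨x, hx⟩ := h
  exact ⟨f x, by rw [orderOf_injective f hf, hx]⟩

theorem Has.congr {X Y : Type*} [Group X] [Group Y] {n : ℕ} (e : X ≃* Y) (h : Has X n) : Has Y n :=
  h.map e.toMonoidHom e.injective

theorem Has.dvd {X : Type*} [Group X] [Finite X] {m n : ℕ} (h : Has X n) (hm : m ∣ n) : Has X m := by
  obtain ⟨x, rfl⟩ := h
  exact ⟨x ^ (orderOf x / m), orderOf_pow_orderOf_div (orderOf_pos x).ne' hm⟩

theorem has_prime {X : Type*} [Group X] [Finite X] {p : ℕ} (hp : p.Prime) (h : p ∣ Nat.card X) : Has X p := by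
  have : Fact p.Prime := ⟨hp⟩
  exact exists_prime_orderOf_dvd_card' p h

/-! ### eight classes -/

/-- eight classes under `Aut X` -/
def Eight (X : Type*) [Group X] : Prop :=
  ∃ T : Finset X, 8 ≤ T.card ∧ ∀ x ∈ T, ∀ y ∈ T, ∀ σ : X ≃* X, σ x = y → x = y

/-- the inner automorphisms -/
def inn (X : Type*) [Group X] : Subgroup (MulAut X) := (MulAut.conj : X →* MulAut X).range

/-- eight classes under the groups between `Inn X` and `Aut X` of index prime to `p` -/
def EightP (p : ℕ) (X : Type*) [Group X] : Prop :=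
  ∀ Γ : Subgroup (MulAut X), inn X ≤ Γ → ¬ p ∣ (inn X).relIndex Γ →
    ∃ T : Finset X, 8 ≤ T.card ∧ ∀ x ∈ T, ∀ y ∈ T, ∀ σ ∈ Γ, σ x = y → x = y

theorem Eight.eightP {X : Type*} [Group X] (h : Eight X) (p : ℕ) : EightP p X := by
  intro Γ _ _
  obtain ⟨T, h1, h2⟩ := h
  exact ⟨T, h1, fun x hx y hy σ _ hσ => h2 x hx y hy σ hσ⟩

/-- classes told apart by an invariant -/
theorem Eight.of_inv {X : Type*} [Group X] {ι : Type*} (inv : X → ι)
    (hinv : ∀ (σ : X ≃* X) (x : X), inv (σ x) = inv x) (T : Finset ι) (hT : ∀ i ∈ T, ∃ x : X, inv x = i)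
    (hcard : 8 ≤ T.card) : Eight X := by
  classical
  have hex : ∀ i : ι, ∃ x : X, i ∈ T → inv x = i := by
    intro i
    by_cases hi : i ∈ T
    · obtain ⟨x, hx⟩ := hT i hi
      exact ⟨x, fun _ => hx⟩
    · exact ⟨1, fun h => absurd h hi⟩
  choose F hF using hex
  refine ⟨T.image F, ?_, ?_⟩
  · rwa [Finset.card_image_of_injOn fun i hi j hj h => by rw [← hF i hi, h, hF j hj]]
  · intro x hx y hy σ hσ
    obtain ⟨i, hi, rfl⟩ := Finset.mem_image.1 hx
    obtain ⟨j, hj, rfl⟩ := Finset.mem_image.1 hy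
    have h1 := hinv σ (F i)
    rw [hσ, hF i hi, hF j hj] at h1
    rw [h1]

/-- **Eight element orders.** -/
theorem Eight.of_has {X : Type*} [Group X] (T : Finset ℕ) (hT : ∀ n ∈ T, Has X n) (hcard : 8 ≤ T.card) :
    Eight X :=
  Eight.of_inv orderOf (fun σ x => MulEquiv.orderOf_eq σ x) T hT hcard

theorem Eight.congr {X Y : Type*} [Group X] [Group Y] (e : X ≃* Y) (h : Eight X) : Eight Y := by
  classical
  obtain ⟨T, h1, h2⟩ := h
  refine ⟨T.image e, by rwa [Finset.card_image_of_injective _ e.injective], ?_⟩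
  intro x hx y hy σ hσ
  obtain ⟨a, ha, rfl⟩ := Finset.mem_image.1 hx
  obtain ⟨b, hb, rfl⟩ := Finset.mem_image.1 hy
  have h3 := h2 a ha b hb ((e.trans σ).trans e.symm) (by
    change e.symm (σ (e a)) = b
    rw [hσ, e.symm_apply_apply])
  rw [h3]

/-! ### the criterion -/

/-- `n` members of the principal block of `X`, pairwise not conjugate under `Γ`. -/
theorem kge_of_chars {p n : ℕ} {X : Type v} [Group X] [Finite X]
    (h : ∀ M : Ideal AlgInt, IsPModular p M → ∀ Γ : Subgroup (MulAut X), inn X ≤ Γ → ¬ p ∣ (inn X).relIndex Γ →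
      ∃ T : Finset (IrrCharacter X), n ≤ T.card ∧ (∀ χ ∈ T, χ ∈ principalBlock M X) ∧
      ∀ χ ∈ T, ∀ ψ ∈ T, ∀ σ ∈ Γ, (∀ x, (ψ : X → ℂ) x = (χ : X → ℂ) (σ x)) → χ = ψ) :
    KGe.{u, v} p n X := by
  classical
  intro M G _ _ K hS
  have : Fact p.Prime := ⟨hS.prime⟩
  have := hS.normal
  have := Fintype.ofFinite G
  have := Fintype.ofFinite K
  obtain ⟨f⟩ := hS.iso
  let φ : G →* MulAut X := (MulAut.congr f.symm).toMonoidHom.comp MulAut.conjNormal
  have hφ : ∀ (g : G) (x : X), φ g x = f.symm (MulAut.conjNormal g (f x)) := fun g x => rfl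
  have hle : inn X ≤ φ.range := by
    rintro _ ⟨x, rfl⟩
    refine ⟨(f x : K), ?_⟩
    ext y
    rw [hφ]
    apply f.injective
    rw [f.apply_symm_apply, MulAut.conj_apply, map_mul, map_mul, map_inv]
    apply Subtype.ext
    rw [MulAut.conjNormal_apply]
    rfl
  have hidx : ¬ p ∣ (inn X).relIndex φ.range := by
    intro hd
    apply hS.ndvd
    have h1 : K ≤ (inn X).comap φ := by
      intro k hk
      refine ⟨f.symm ⟨k, hk⟩, ?_⟩
      ext y
      rw [hφ]
      apply f.injective
      rw [f.apply_symm_apply, MulAut.conj_apply, map_mul, map_mul, map_inv, f.apply_symm_apply]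
      apply Subtype.ext
      rw [MulAut.conjNormal_apply]
      rfl
    have h2 := Subgroup.index_dvd_of_le h1
    rw [Subgroup.index_comap] at h2
    exact hd.trans h2
  obtain ⟨T, hTn, hTB, hTσ⟩ := h M hS.modular φ.range hle hidx
  obtain ⟨P⟩ : Nonempty (Sylow p G) := inferInstance
  have hPN : (P : Subgroup G) ≤ Subgroup.normalizer (K : Set G) := by
    rw [Subgroup.normalizer_eq_top]
    exact le_top
  have hex : ∀ χ : IrrCharacter X, ∃ Φ : IrrCharacter G, χ ∈ T → Φ ∈ principalBlock M G ∧
      classInner (fun k : K => (Φ : G → ℂ) k) (tw f.symm χ : K → ℂ) ≠ 0 := by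
    intro χ
    by_cases hχ : χ ∈ T
    · obtain ⟨Φ, hΦ, hc⟩ := H656.OverPrincipal.exists_over hS.modular K P hPN (tw f.symm χ)
        (tw_mem f.symm (hTB χ hχ))
      exact ⟨Φ, fun _ => ⟨hΦ, hc⟩⟩
    · exact ⟨⟨fun _ => 1, Blocks.Basic.isIrrCharacter_one⟩, fun h1 => absurd h1 hχ⟩
  choose F hF using hex
  have hinj : ∀ χ ∈ T, ∀ ψ ∈ T, F χ = F ψ → χ = ψ := by
    intro χ hχ ψ hψ he
    have h1 := (hF χ hχ).2
    have h2 := (hF ψ hψ).2
    rw [← he] at h2
    obtain ⟨g, hg⟩ := Characters.Clifford.exists_conj_of_constituents K (F χ).2 (tw f.symm χ).2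
      (tw f.symm ψ).2 h1 h2
    refine hTσ χ hχ ψ hψ (φ g) ⟨g, rfl⟩ fun x => ?_
    have h3 := congrFun hg (f x)
    rw [tw_apply, f.symm_apply_apply, Function.comp_apply, tw_apply] at h3
    exact h3
  have hfin : Finite (IrrCharacter G) := Characters.Core.finite_irr
  calc n ≤ T.card := hTn
    _ = (T.image F).card := (Finset.card_image_of_injOn fun χ hχ ψ hψ he => hinj χ hχ ψ hψ he).symm
    _ ≤ Nat.card (principalBlock M G) := by
      rw [← Set.ncard_coe_finset, ← Nat.card_coe_set_eq]
      refine Nat.card_mono (Set.toFinite _) ?_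
      intro Φ hΦ
      obtain ⟨χ, hχ, rfl⟩ := Finset.mem_image.1 (Finset.mem_coe.1 hΦ)
      exact (hF χ hχ).1

section orbits

variable {X : Type v} [Group X]

/-- the action of `Γ` on the irreducible characters -/
@[reducible] def aI (Γ : Subgroup (MulAut X)) : MulAction Γ (IrrCharacter X) :=
  letI := actIrr (S := X)
  MulAction.compHom (IrrCharacter X) Γ.subtype

/-- the action of `Γ` on the classes -/
@[reducible] def aC (Γ : Subgroup (MulAut X)) : MulAction Γ (ConjClasses X) :=
  letI := actCl (S := X)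
  MulAction.compHom (ConjClasses X) Γ.subtype

theorem card_orbits [Finite X] (Γ : Subgroup (MulAut X)) :
    Nat.card (@MulAction.orbitRel.Quotient Γ (IrrCharacter X) _ (aI Γ)) =
      Nat.card (@MulAction.orbitRel.Quotient Γ (ConjClasses X) _ (aC Γ)) := by
  let := aI Γ
  let := aC Γ
  have : Finite (IrrCharacter X) := Characters.Core.finite_irr
  apply H692.RealAct.card_orbits_eq
  intro a
  exact S0860.result (A := Γ) (fun a χ g g' h => compat (a : MulAut X) χ g g' h) a

theorem card_le_orbits [Finite X] (Γ : Subgroup (MulAut X)) (hΓ : inn X ≤ Γ) (T : Finset X)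
    (hinj : ∀ x ∈ T, ∀ y ∈ T, ∀ σ ∈ Γ, σ x = y → x = y) :
    T.card ≤ Nat.card (@MulAction.orbitRel.Quotient Γ (IrrCharacter X) _ (aI Γ)) := by
  classical
  rw [card_orbits]
  have hfin : Finite (@MulAction.orbitRel.Quotient Γ (ConjClasses X) _ (aC Γ)) := Quotient.finite _
  let F : T → @MulAction.orbitRel.Quotient Γ (ConjClasses X) _ (aC Γ) :=
    fun x => Quotient.mk _ (ConjClasses.mk (x : X))
  have hF : Function.Injective F := by
    intro x y hxy
    obtain ⟨a, ha⟩ : ∃ a : Γ, (ConjClasses.mk ((a : MulAut X) (y : X))) = ConjClasses.mk (x : X) :=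
      Quotient.exact hxy
    obtain ⟨c, hc⟩ := isConj_iff.1 (ConjClasses.mk_eq_mk_iff_isConj.1 ha)
    exact Subtype.ext (hinj y y.2 x x.2 (MulAut.conj c * a) (mul_mem (hΓ ⟨c, rfl⟩) a.2) hc).symm
  have h1 := Nat.card_le_card_of_injective _ hF
  rwa [Nat.card_eq_fintype_card, Fintype.card_coe] at h1

end orbits

/-- **CRITERION O** for a row. -/
theorem krow_of_eightP {p : ℕ} {X : Type v} [Group X] [Finite X] (h : EightP p X)
    (hB : ∀ M : Ideal AlgInt, IsPModular p M → ∃ St : IrrCharacter X,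
      ∀ χ : IrrCharacter X, χ ≠ St → χ ∈ principalBlock M X) : KRow.{u, v} p X := by
  classical
  refine kge_of_chars fun M hM Γ hΓ hidx => ?_
  obtain ⟨St, hSt⟩ := hB M hM
  obtain ⟨T, hT8, hT⟩ := h Γ hΓ hidx
  have h1 := hT8.trans (card_le_orbits Γ hΓ T hT)
  let act := aI Γ
  have : Finite (IrrCharacter X) := Characters.Core.finite_irr
  have hfin : Finite (MulAction.orbitRel.Quotient Γ (IrrCharacter X)) := Quotient.finite _
  have := Fintype.ofFinite (MulAction.orbitRel.Quotient Γ (IrrCharacter X))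
  rw [Nat.card_eq_fintype_card] at h1
  let bad : Finset (MulAction.orbitRel.Quotient Γ (IrrCharacter X)) := {Quotient.mk _ St}
  have hgood : 7 ≤ badᶜ.card := by
    rw [Finset.card_compl, Finset.card_singleton]
    omega
  have hout : ∀ q : MulAction.orbitRel.Quotient Γ (IrrCharacter X),
      Quotient.mk _ (Quotient.out q) = q := fun q => Quotient.out_eq q
  refine ⟨badᶜ.image Quotient.out, ?_, ?_, ?_⟩
  · rw [Finset.card_image_of_injective _ Quotient.out_injective]
    exact hgood
  · intro χ hχ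
    obtain ⟨q, hq, rfl⟩ := Finset.mem_image.1 hχ
    refine hSt _ fun h2 => ?_
    rw [Finset.mem_compl] at hq
    refine hq (Finset.mem_singleton.2 ?_)
    rw [← h2, hout]
  · intro χ hχ ψ hψ σ hσΓ hσ
    obtain ⟨q, hq, rfl⟩ := Finset.mem_image.1 hχ
    obtain ⟨r, hr, rfl⟩ := Finset.mem_image.1 hψ
    have h2 : q = r := by
      rw [← hout q, ← hout r]
      apply Quotient.sound
      refine ⟨⟨σ, hσΓ⟩, ?_⟩
      apply Subtype.ext
      funext s
      change ((Quotient.out r : IrrCharacter X) : X → ℂ) (σ⁻¹ s) =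
        ((Quotient.out q : IrrCharacter X) : X → ℂ) s
      rw [hσ, MulAut.apply_inv_self]
    rw [h2]

theorem krow_of_eight {p : ℕ} {X : Type v} [Group X] [Finite X] (h : Eight X)
    (hB : ∀ M : Ideal AlgInt, IsPModular p M → ∃ St : IrrCharacter X,
      ∀ χ : IrrCharacter X, χ ≠ St → χ ∈ principalBlock M X) : KRow.{u, v} p X :=
  krow_of_eightP (h.eightP p) hB

end Cfsg.Agent.H193.K6
end
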